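import Groth.Agent.HomDesc.BaseChange
import Groth.Agent.QuotTorus.Prop
import Mathlib.RingTheory.Jacobson.Ring
import Mathlib.RingTheory.Flat.Basic

/-!
Affine groups of finite type over an algebraically closed field which become isomorphic over a larger
field are isomorphic.
-/

set_option autoImplicit false
set_option backward.isDefEq.respectTransparency false
set_option backward.isDefEq.respectTransparency.types false
set_option linter.unusedSectionVars false
set_option linter.style.haveILetI false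
set_option maxHeartbeats 1600000
set_option synthInstance.maxHeartbeats 400000

universe u

open CategoryTheory CategoryTheory.Limits MonoidalCategory CartesianMonoidalCategory MonObj AlgebraicGeometry
open scoped TensorProduct

noncomputable section

namespace Groth.Agent.AlgClosIso

/-- An affine flat scheme over `R` is scheme-theoretically dominated by its base change along an injection. -/
theorem fst_cancel {R Ω : CommRingCat.{u}} {X : Scheme.{u}} [IsAffine X] (h : X ⟶ Spec R) [Flat h] (j : R ⟶ Ω)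
    (hj : Function.Injective j.hom) {Y : Scheme.{u}} [IsAffine Y] {f₁ f₂ : X ⟶ Y}
    (he : pullback.fst h (Spec.map j) ≫ f₁ = pullback.fst h (Spec.map j) ≫ f₂) : f₁ = f₂ := by
  let φ : R ⟶ Γ(X, ⊤) := Spec.preimage (X.isoSpec.inv ≫ h)
  have hφ : Spec.map φ = X.isoSpec.inv ≫ h := Spec.map_preimage _
  algebraize [φ.hom, j.hom]
  haveI : Module.Flat R Γ(X, ⊤) := by
    have : Flat (Spec.map φ) := by rw [hφ]; infer_instance
    rw [HasRingHomProperty.Spec_iff (P := @Flat)] at this
    exact this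
  let i : CommRingCat.of Γ(X, ⊤) ⟶ CommRingCat.of (Γ(X, ⊤) ⊗[R] Ω) :=
    CommRingCat.ofHom Algebra.TensorProduct.includeLeftRingHom
  let w : Spec (CommRingCat.of (Γ(X, ⊤) ⊗[R] Ω)) ⟶ pullback h (Spec.map j) :=
    pullback.lift (Spec.map i ≫ X.isoSpec.inv)
      (Spec.map (CommRingCat.ofHom (Algebra.TensorProduct.includeRight (R := R) (A := Γ(X, ⊤)) (B := Ω)).toRingHom)) (by
        rw [Category.assoc, ← hφ, ← Spec.map_comp, ← Spec.map_comp]
        congr 1
        refine CommRingCat.hom_ext (RingHom.ext fun r => ?_)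
        show (φ.hom r) ⊗ₜ[R] (1 : Ω) = (1 : Γ(X, ⊤)) ⊗ₜ[R] (j.hom r)
        rw [show φ.hom r = r • (1 : Γ(X, ⊤)) from Algebra.algebraMap_eq_smul_one r,
          show j.hom r = r • (1 : Ω) from Algebra.algebraMap_eq_smul_one r, TensorProduct.smul_tmul])
  have hi : Function.Injective i.hom :=
    Algebra.TensorProduct.includeLeft_injective (S := Γ(X, ⊤)) (A := Γ(X, ⊤)) (B := Ω) hj
  have h' := congrArg (fun t => w ≫ t ≫ Y.isoSpec.hom) he
  simp only [← Category.assoc, w, pullback.lift_fst] at h'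
  simp only [Category.assoc] at h'
  rw [← Spec.map_preimage (X.isoSpec.inv ≫ f₁ ≫ Y.isoSpec.hom),
    ← Spec.map_preimage (X.isoSpec.inv ≫ f₂ ≫ Y.isoSpec.hom), ← Spec.map_comp, ← Spec.map_comp] at h'
  have h'' := Spec.map_injective h'
  have h3 : Spec.preimage (X.isoSpec.inv ≫ f₁ ≫ Y.isoSpec.hom) = Spec.preimage (X.isoSpec.inv ≫ f₂ ≫ Y.isoSpec.hom) :=
    CommRingCat.hom_ext (RingHom.ext fun b => hi (DFunLike.congr_fun (congrArg CommRingCat.Hom.hom h'') b))
  have h4 := congrArg Spec.map h3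
  rw [Spec.map_preimage, Spec.map_preimage, cancel_epi, cancel_mono] at h4
  exact h4

variable {K Ω : Type u} [Field K] [Field Ω] [Algebra K Ω]

/-- The morphism of spectra of a `K`-algebra. -/
abbrev sp (K C : Type u) [CommRing K] [CommRing C] [Algebra K C] : Spec (CommRingCat.of C) ⟶ Spec (CommRingCat.of K) :=
  Spec.map (CommRingCat.ofHom (algebraMap K C))

/-- The morphism of spectra of the inclusion of a subalgebra. -/
abbrev inclSp (R : Subalgebra K Ω) : Spec (CommRingCat.of Ω) ⟶ Spec (CommRingCat.of R) :=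
  Spec.map (CommRingCat.ofHom R.val.toRingHom)

theorem inclSp_sp (R : Subalgebra K Ω) : inclSp R ≫ sp K R = sp K Ω := by
  rw [← Spec.map_comp]
  rfl

/-- The projection between base changes. -/
abbrev inclBC (X : Over (Spec (CommRingCat.of K))) (R : Subalgebra K Ω) :
    pullback X.hom (sp K Ω) ⟶ pullback X.hom (sp K R) :=
  pullback.lift (pullback.fst X.hom (sp K Ω)) (pullback.snd X.hom (sp K Ω) ≫ inclSp R)
    (by rw [Category.assoc, inclSp_sp]; exact pullback.condition)

/-- A morphism between affine schemes of finite type over the larger field is defined over a finitely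
generated subalgebra. -/
theorem exists_spread (X Y : Over (Spec (CommRingCat.of K))) [IsAffine X.left] [IsAffine Y.left]
    [LocallyOfFiniteType Y.hom] (f : pullback X.hom (sp K Ω) ⟶ Y.left)
    (hf : f ≫ Y.hom = pullback.snd X.hom (sp K Ω) ≫ sp K Ω) :
    ∃ s : Finset Ω, ∀ R : Subalgebra K Ω, (↑s : Set Ω) ⊆ ↑R →
      ∃ f₁ : pullback X.hom (sp K R) ⟶ Y.left,
        f₁ ≫ Y.hom = pullback.snd X.hom (sp K R) ≫ sp K R ∧ inclBC X R ≫ f₁ = f := by
  classical
  let φX : CommRingCat.of K ⟶ Γ(X.left, ⊤) := Spec.preimage (X.left.isoSpec.inv ≫ X.hom)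
  have hφX : Spec.map φX = X.left.isoSpec.inv ≫ X.hom := Spec.map_preimage _
  let φY : CommRingCat.of K ⟶ Γ(Y.left, ⊤) := Spec.preimage (Y.left.isoSpec.inv ≫ Y.hom)
  have hφY : Spec.map φY = Y.left.isoSpec.inv ≫ Y.hom := Spec.map_preimage _
  letI : Algebra K Γ(X.left, ⊤) := φX.hom.toAlgebra
  letI : Algebra K Γ(Y.left, ⊤) := φY.hom.toAlgebra
  haveI : Algebra.FiniteType K Γ(Y.left, ⊤) := by
    have : LocallyOfFiniteType (Spec.map φY) := by rw [hφY]; infer_instance
    rw [HasRingHomProperty.Spec_iff (P := @LocallyOfFiniteType)] at this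
    exact this
  have hX : X.hom = X.left.isoSpec.hom ≫ sp K Γ(X.left, ⊤) := by
    show X.hom = X.left.isoSpec.hom ≫ Spec.map φX
    rw [hφX, Iso.hom_inv_id_assoc]
  -- the coordinate ring of a base change
  let e : ∀ (C : Type u) [CommRing C] [Algebra K C],
      pullback X.hom (sp K C) ≅ Spec (CommRingCat.of (Γ(X.left, ⊤) ⊗[K] C)) := fun C _ _ =>
    asIso (pullback.map X.hom (sp K C) (sp K Γ(X.left, ⊤)) (sp K C) X.left.isoSpec.hom (𝟙 _) (𝟙 _)
      (by rw [Category.comp_id]; exact hX) (by simp)) ≪≫ pullbackSpecIso K Γ(X.left, ⊤) C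
  have efst : ∀ (C : Type u) [CommRing C] [Algebra K C], (e C).inv ≫ pullback.fst X.hom (sp K C) ≫ X.left.isoSpec.hom =
      Spec.map (CommRingCat.ofHom Algebra.TensorProduct.includeLeftRingHom) := fun C _ _ => by
    rw [Iso.inv_comp_eq]
    simp only [e, Iso.trans_hom, asIso_hom, Category.assoc]
    rw [pullbackSpecIso_hom_fst, pullback.lift_fst]
  have esnd : ∀ (C : Type u) [CommRing C] [Algebra K C], (e C).inv ≫ pullback.snd X.hom (sp K C) =
      Spec.map (CommRingCat.ofHom (Algebra.TensorProduct.includeRight (R := K) (A := Γ(X.left, ⊤)) (B := C)).toRingHom) :=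
    fun C _ _ => by
    rw [Iso.inv_comp_eq]
    simp only [e, Iso.trans_hom, asIso_hom, Category.assoc]
    erw [pullbackSpecIso_hom_snd]
    rw [pullback.lift_snd, Category.comp_id]
  let φ : CommRingCat.of Γ(Y.left, ⊤) ⟶ CommRingCat.of (Γ(X.left, ⊤) ⊗[K] Ω) :=
    Spec.preimage ((e Ω).inv ≫ f ≫ Y.left.isoSpec.hom)
  have hφ : Spec.map φ = (e Ω).inv ≫ f ≫ Y.left.isoSpec.hom := Spec.map_preimage _
  have hφK : φY ≫ φ = CommRingCat.ofHom (algebraMap K (Γ(X.left, ⊤) ⊗[K] Ω)) := Spec.map_injective (by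
    rw [Spec.map_comp, hφ, hφY, Category.assoc, Category.assoc, Iso.hom_inv_id_assoc, hf, ← Category.assoc, esnd,
      ← Spec.map_comp, ← CommRingCat.ofHom_comp]
    congr 2
    exact (Algebra.TensorProduct.includeRight (R := K) (A := Γ(X.left, ⊤)) (B := Ω)).comp_algebraMap)
  let φa : Γ(Y.left, ⊤) →ₐ[K] Γ(X.left, ⊤) ⊗[K] Ω :=
    { φ.hom with commutes' := fun r => DFunLike.congr_fun (congrArg CommRingCat.Hom.hom hφK) r }
  obtain ⟨g, hg⟩ := ‹Algebra.FiniteType K Γ(Y.left, ⊤)›.out
  choose T hT using fun z => TensorProduct.exists_finset (R := K) (M := Γ(X.left, ⊤)) (N := Ω) z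
  refine ⟨g.biUnion fun b => (T (φa b)).image Prod.snd, fun R hR => ?_⟩
  let inc : Γ(X.left, ⊤) ⊗[K] R →ₐ[K] Γ(X.left, ⊤) ⊗[K] Ω := Algebra.TensorProduct.map (AlgHom.id K _) R.val
  have hι : Function.Injective inc :=
    Module.Flat.lTensor_preserves_injective_linearMap R.val.toLinearMap Subtype.val_injective
  have hrange : ∀ b, φa b ∈ inc.range := fun b => by
    have htop : (⊤ : Subalgebra K Γ(Y.left, ⊤)) ≤ inc.range.comap φa := by
      rw [← hg, Algebra.adjoin_le_iff]
      intro c hc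
      show φa c ∈ inc.range
      rw [hT (φa c)]
      refine sum_mem fun p hp => ?_
      have hp2 : p.2 ∈ R := hR (Finset.mem_biUnion.2 ⟨c, hc, Finset.mem_image.2 ⟨p, hp, rfl⟩⟩)
      exact ⟨p.1 ⊗ₜ ⟨p.2, hp2⟩, rfl⟩
    exact htop Algebra.mem_top
  let φ₁ : Γ(Y.left, ⊤) →ₐ[K] Γ(X.left, ⊤) ⊗[K] R :=
    (AlgEquiv.ofInjective inc hι).symm.toAlgHom.comp (φa.codRestrict inc.range hrange)
  have hφ₁ : inc.comp φ₁ = φa := AlgHom.ext fun b =>
    congrArg Subtype.val ((AlgEquiv.ofInjective inc hι).apply_symm_apply ⟨φa b, hrange b⟩)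
  refine ⟨(e R).hom ≫ Spec.map (CommRingCat.ofHom φ₁.toRingHom) ≫ Y.left.isoSpec.inv, ?_, ?_⟩
  · rw [Category.assoc, Category.assoc, ← hφY, ← Spec.map_comp, ← Iso.eq_inv_comp, ← Category.assoc, esnd,
      ← Spec.map_comp]
    congr 1
    refine CommRingCat.hom_ext ((φ₁.comp_algebraMap).trans ?_)
    exact (Algebra.TensorProduct.includeRight (R := K) (A := Γ(X.left, ⊤)) (B := R)).comp_algebraMap.symm
  · have hmap : (e Ω).inv ≫ inclBC X R = Spec.map (CommRingCat.ofHom inc.toRingHom) ≫ (e R).inv := by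
      apply pullback.hom_ext
      · rw [← cancel_mono X.left.isoSpec.hom]
        simp only [Category.assoc, efst]
        rw [← Category.assoc (inclBC X R), pullback.lift_fst, efst, ← Spec.map_comp, ← CommRingCat.ofHom_comp]
        congr 2
      · simp only [Category.assoc, esnd]
        rw [pullback.lift_snd, ← Category.assoc, esnd, ← Spec.map_comp, ← Spec.map_comp]
        congr 1
    rw [← cancel_epi (e Ω).inv, ← Category.assoc, hmap, Category.assoc, Iso.inv_hom_id_assoc, ← Category.assoc,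
      ← Spec.map_comp, ← CommRingCat.ofHom_comp,
      show inc.toRingHom.comp φ₁.toRingHom = φa.toRingHom from congrArg AlgHom.toRingHom hφ₁,
      show CommRingCat.ofHom φa.toRingHom = φ from rfl, hφ, Category.assoc, Category.assoc, Iso.hom_inv_id,
      Category.comp_id]

/-- Equality of maps between base changes may be checked after extension of scalars. -/
theorem map_cancel {R : CommRingCat.{u}} {X Y : Over (Spec R)} [IsAffine X.left] [IsAffine Y.left] [Flat X.hom]
    {Ω : CommRingCat.{u}} (j : R ⟶ Ω) (hj : Function.Injective j.hom) {v₁ v₂ : X ⟶ Y}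
    (h : (Over.pullback (Spec.map j)).map v₁ = (Over.pullback (Spec.map j)).map v₂) : v₁ = v₂ := by
  apply Over.OverMorphism.ext
  refine fst_cancel X.hom j hj ?_
  have h' := congrArg (fun t : _ ⟶ (Over.pullback (Spec.map j)).obj Y => t.left ≫ pullback.fst Y.hom (Spec.map j)) h
  simpa [ActBC.pullback_map_left_fst] using h'

theorem isAffine_bc {S' : Scheme.{u}} [IsAffine S'] {S : Scheme.{u}} (f : S' ⟶ S) (X : Over S) [IsAffineHom X.hom] :
    IsAffine (Red.bc f X).left :=
  haveI : IsAffineHom (pullback.snd X.hom f) := MorphismProperty.pullback_snd _ _ inferInstance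
  isAffine_of_isAffineHom (pullback.snd X.hom f)

/-- A morphism of base changes from its composite with the projection. -/
theorem map_eq_of_fst {S S' S'' : Scheme.{u}} (f : S'' ⟶ S') (g : S' ⟶ S) {d : S'' ⟶ S} (h : f ≫ g = d)
    {X Y : Over S} (v : Red.bc g X ⟶ Red.bc g Y) (u : Red.bc d X ⟶ Red.bc d Y)
    (hv : pullback.lift (pullback.fst X.hom d) (pullback.snd X.hom d ≫ f)
        (by rw [Category.assoc, h]; exact pullback.condition) ≫ v.left ≫ pullback.fst Y.hom g =
      u.left ≫ pullback.fst Y.hom d) :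
    (Over.pullback f).map v = (ActBC.bcCompIso f g X h).hom ≫ u ≫ (ActBC.bcCompIso f g Y h).inv := by
  rw [← Category.assoc, Iso.eq_comp_inv]
  apply Over.OverMorphism.ext
  apply pullback.hom_ext
  · rw [Over.comp_left, Over.comp_left, Category.assoc, Category.assoc, ActBC.bcCompIso_hom_left_fst,
      ← Category.assoc, ActBC.pullback_map_left_fst, Category.assoc, ← hv, ← Category.assoc (ActBC.bcCompIso f g X h).hom.left]
    congr 1
    apply pullback.hom_ext
    · rw [Category.assoc, pullback.lift_fst, ActBC.bcCompIso_hom_left_fst]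
    · rw [Category.assoc, pullback.lift_snd, ActBC.bcCompIso_hom_left_snd_assoc]
      exact pullback.condition
  · exact (Over.w _).trans (Over.w _).symm

/-- An isomorphism of groups is determined over a subring of the ground ring. -/
theorem grpIso_of_map {R Ω : CommRingCat.{u}} (j : R ⟶ Ω) (hj : Function.Injective j.hom) {A B : Over (Spec R)}
    [GrpObj A] [GrpObj B] [IsAffine A.left] [IsAffine B.left] [Flat A.hom] [Flat B.hom]
    (U : Grp.mk (Red.bc (Spec.map j) A) ≅ Grp.mk (Red.bc (Spec.map j) B)) (v : A ⟶ B) (w : B ⟶ A)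
    (hv : (Over.pullback (Spec.map j)).map v = U.hom.hom.hom)
    (hw : (Over.pullback (Spec.map j)).map w = U.inv.hom.hom) : Nonempty (Grp.mk A ≅ Grp.mk B) := by
  let F := Over.pullback (Spec.map j)
  have hvw : v ≫ w = 𝟙 _ := map_cancel j hj (by
    rw [F.map_comp, F.map_id, hv, hw]
    exact congrArg (fun t => t.hom.hom) U.hom_inv_id)
  have hwv : w ≫ v = 𝟙 _ := map_cancel j hj (by
    rw [F.map_comp, F.map_id, hv, hw]
    exact congrArg (fun t => t.hom.hom) U.inv_hom_id)
  haveI : IsMonHom (F.map v) := by rw [hv]; exact U.hom.hom.isMonHom_hom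
  haveI : IsMonHom v := by
    haveI : IsAffineHom A.hom := isAffineHom_of_isAffine _
    haveI : IsAffineHom (pullback.fst A.hom A.hom) := MorphismProperty.pullback_fst _ _ inferInstance
    haveI : IsAffine (A ⊗ A).left := isAffine_of_isAffineHom (pullback.fst A.hom A.hom)
    haveI : Flat (A ⊗ A).hom := by
      show Flat (pullback.fst A.hom A.hom ≫ A.hom)
      infer_instance
    haveI : IsAffine (𝟙_ (Over (Spec R))).left := inferInstanceAs (IsAffine (Spec R))
    haveI : Flat (𝟙_ (Over (Spec R))).hom := inferInstanceAs (Flat (𝟙 (Spec R)))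
    constructor
    · refine map_cancel j hj ?_
      rw [← cancel_epi (Functor.LaxMonoidal.ε F), F.map_comp, ← Category.assoc, ← Functor.obj.η_def, IsMonHom.one_hom,
        Functor.obj.η_def]
    · refine map_cancel j hj ?_
      rw [← cancel_epi (Functor.LaxMonoidal.μ F _ _), F.map_comp, F.map_comp, ← Category.assoc, ← Functor.obj.μ_def,
        IsMonHom.mul_hom, Functor.obj.μ_def, ← Category.assoc, Functor.LaxMonoidal.μ_natural, Category.assoc]
  let i : A ≅ B := { hom := v, inv := w, hom_inv_id := hvw, inv_hom_id := hwv }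
  haveI : IsMonHom i.hom := ‹IsMonHom v›
  exact ⟨Grp.mkIso' i⟩

/-- Transport of an isomorphism of groups along a point. -/
theorem grpIso_of_point {S S' : Scheme.{u}} (p : S ⟶ S') (g : S' ⟶ S) (h : p ≫ g = 𝟙 S) (A B : Over S)
    [GrpObj A] [GrpObj B] (e : Grp.mk (Red.bc g A) ≅ Grp.mk (Red.bc g B)) : Nonempty (Grp.mk A ≅ Grp.mk B) := by
  obtain ⟨iA⟩ := QuotTorus.nonempty_bcId_iso A
  obtain ⟨iB⟩ := QuotTorus.nonempty_bcId_iso B
  exact ⟨iA.symm ≪≫ (HomDesc.bcGrpIso p g h A).symm ≪≫ (Over.pullback p).mapGrp.mapIso e ≪≫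
    HomDesc.bcGrpIso p g h B ≪≫ iB⟩

theorem exists_point [IsAlgClosed K] (R : Subalgebra K Ω) [Algebra.FiniteType K R] :
    ∃ σ : Spec (CommRingCat.of K) ⟶ Spec (CommRingCat.of R), σ ≫ sp K R = 𝟙 _ := by
  obtain ⟨m, hm⟩ := Ideal.exists_maximal R
  letI := Ideal.Quotient.field m
  haveI : Algebra.FiniteType K (R ⧸ m) :=
    Algebra.FiniteType.of_surjective (Ideal.Quotient.mkₐ K m) Ideal.Quotient.mk_surjective
  haveI : Module.Finite K (R ⧸ m) := finite_of_finite_type_of_isJacobsonRing K (R ⧸ m)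
  let σ : R →ₐ[K] K := (AlgEquiv.ofBijective (Algebra.ofId K (R ⧸ m))
    IsAlgClosed.algebraMap_bijective_of_isIntegral).symm.toAlgHom.comp (Ideal.Quotient.mkₐ K m)
  refine ⟨Spec.map (CommRingCat.ofHom σ.toRingHom), ?_⟩
  rw [← Spec.map_comp, ← CommRingCat.ofHom_comp, ← Spec.map_id]
  congr 1
  exact CommRingCat.hom_ext σ.comp_algebraMap

/-- An isomorphism of groups defined over a subring. -/
theorem lift_grpIso {S : Scheme.{u}} {R Ω : CommRingCat.{u}} (j : R ⟶ Ω) (hj : Function.Injective j.hom)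
    (g : Spec R ⟶ S) {d : Spec Ω ⟶ S} (h : Spec.map j ≫ g = d) (A B : Over S) [GrpObj A] [GrpObj B]
    [IsAffine (Red.bc g A).left] [IsAffine (Red.bc g B).left] [Flat (Red.bc g A).hom] [Flat (Red.bc g B).hom]
    (e : Grp.mk (Red.bc d A) ≅ Grp.mk (Red.bc d B)) (f₁ : pullback A.hom g ⟶ B.left)
    (hf₁ : f₁ ≫ B.hom = pullback.snd A.hom g ≫ g) (f₂ : pullback B.hom g ⟶ A.left)
    (hf₂ : f₂ ≫ A.hom = pullback.snd B.hom g ≫ g)
    (h₁ : pullback.lift (pullback.fst A.hom d) (pullback.snd A.hom d ≫ Spec.map j)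
        (by rw [Category.assoc, h]; exact pullback.condition) ≫ f₁ = e.hom.hom.hom.left ≫ pullback.fst B.hom d)
    (h₂ : pullback.lift (pullback.fst B.hom d) (pullback.snd B.hom d ≫ Spec.map j)
        (by rw [Category.assoc, h]; exact pullback.condition) ≫ f₂ = e.inv.hom.hom.left ≫ pullback.fst A.hom d) :
    Nonempty (Grp.mk (Red.bc g A) ≅ Grp.mk (Red.bc g B)) := by
  let v : Red.bc g A ⟶ Red.bc g B :=
    Over.homMk (pullback.lift f₁ (pullback.snd A.hom g) hf₁) (pullback.lift_snd _ _ _)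
  let w : Red.bc g B ⟶ Red.bc g A :=
    Over.homMk (pullback.lift f₂ (pullback.snd B.hom g) hf₂) (pullback.lift_snd _ _ _)
  let U := HomDesc.bcGrpIso (Spec.map j) g h A ≪≫ e ≪≫ (HomDesc.bcGrpIso (Spec.map j) g h B).symm
  have hv : (Over.pullback (Spec.map j)).map v = U.hom.hom.hom := map_eq_of_fst _ _ h v e.hom.hom.hom (by
    rw [← h₁]; exact congrArg _ (pullback.lift_fst _ _ _))
  have hw : (Over.pullback (Spec.map j)).map w = U.inv.hom.hom :=
    (map_eq_of_fst _ _ h w e.inv.hom.hom (by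
      rw [← h₂]; exact congrArg _ (pullback.lift_fst _ _ _))).trans (Category.assoc _ _ _).symm
  exact grpIso_of_map j hj U v w hv hw

theorem flat_bc (R : Subalgebra K Ω) (A : Over (Spec (CommRingCat.of K))) : Flat (Red.bc (sp K R) A).hom := by
  haveI : Flat A.hom := inferInstance
  exact MorphismProperty.pullback_snd _ _ inferInstance

/-- Isomorphy of affine groups of finite type descends along an extension of an algebraically closed field. -/
theorem nonempty_iso [IsAlgClosed K] (A B : Over (Spec (CommRingCat.of K))) [GrpObj A] [GrpObj B] [IsAffine A.left]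
    [IsAffine B.left] [LocallyOfFiniteType A.hom] [LocallyOfFiniteType B.hom]
    (e : Grp.mk (Red.bc (sp K Ω) A) ≅ Grp.mk (Red.bc (sp K Ω) B)) : Nonempty (Grp.mk A ≅ Grp.mk B) := by
  classical
  obtain ⟨s₁, hs₁⟩ := exists_spread A B (e.hom.hom.hom.left ≫ pullback.fst B.hom (sp K Ω)) (by
    rw [Category.assoc, pullback.condition, ← Category.assoc]
    exact congrArg (· ≫ sp K Ω) (Over.w e.hom.hom.hom))
  obtain ⟨s₂, hs₂⟩ := exists_spread B A (e.inv.hom.hom.left ≫ pullback.fst A.hom (sp K Ω)) (by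
    rw [Category.assoc, pullback.condition, ← Category.assoc]
    exact congrArg (· ≫ sp K Ω) (Over.w e.inv.hom.hom))
  obtain ⟨R, hR, h₁, h₂⟩ : ∃ R : Subalgebra K Ω, Algebra.FiniteType K R ∧ (↑s₁ : Set Ω) ⊆ ↑R ∧ (↑s₂ : Set Ω) ⊆ ↑R :=
    ⟨Algebra.adjoin K (↑(s₁ ∪ s₂) : Set Ω), (Subalgebra.fg_iff_finiteType _).1 (Subalgebra.fg_adjoin_finset _),
      fun x hx => Algebra.subset_adjoin (Finset.mem_union_left _ hx),
      fun x hx => Algebra.subset_adjoin (Finset.mem_union_right _ hx)⟩
  obtain ⟨f₁, hf₁, hf₁'⟩ := hs₁ R h₁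
  obtain ⟨f₂, hf₂, hf₂'⟩ := hs₂ R h₂
  haveI := isAffine_bc (sp K R) A
  haveI := isAffine_bc (sp K R) B
  haveI := flat_bc R A
  haveI := flat_bc R B
  obtain ⟨vi⟩ := lift_grpIso (CommRingCat.ofHom R.val.toRingHom) Subtype.val_injective (sp K R) (inclSp_sp R) A B e
    f₁ hf₁ f₂ hf₂ hf₁' hf₂'
  obtain ⟨σ, hσ⟩ := exists_point R
  exact grpIso_of_point σ (sp K R) hσ A B vi

end Groth.Agent.AlgClosIso
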